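import Groth.Agent.H1Falt.Torsion
import Groth.Agent.H1Falt.Colim
import Groth.Agent.H9Misc.DRingHomCxHom

/-!
# Classes of cocycles of a Hom complex in the derived category, and torsion parts of Hom complexes
-/

set_option autoImplicit false
set_option linter.style.haveILetI false
set_option backward.isDefEq.respectTransparency false

universe u

open CategoryTheory CategoryTheory.Limits
open CochainComplex CochainComplex.HomComplex

attribute [local instance] HasDerivedCategory.standard

namespace Groth.Agent.H1LCFin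

open H1Falt

variable {A : Type u} [CommRing A]

/-- A cocycle, as a chain map to the shifted complex. -/
noncomputable def cocMap {K W : DRing.Cx A} {n : ℤ} (z : Cyc (DRing.homCx K W) n) : K ⟶ W⟦n⟧ :=
  Cocycle.equivHomShift.symm (H9Misc.DRingHomCx.toCocycle (z.1 : Cochain K W n) z.2)

lemma cocMap_smul {K W : DRing.Cx A} {n : ℤ} (r : A) (z : Cyc (DRing.homCx K W) n) :
    cocMap (r • z) = r • cocMap z := by
  ext p : 1
  simp [cocMap, Cocycle.equivHomShift_symm_apply, H9Misc.DRingHomCx.toCocycle]
  rfl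

lemma cocMap_add {K W : DRing.Cx A} {n : ℤ} (z z' : Cyc (DRing.homCx K W) n) :
    cocMap (z + z') = cocMap z + cocMap z' := by
  unfold cocMap
  rw [← map_add]
  congr 1

/-- Classes of cocycles in the derived category. -/
noncomputable def clsD (K W : DRing.Cx A) (n : ℤ) :
    Cyc (DRing.homCx K W) n →ₗ[A] (DRing.toD K ⟶ (DRing.toD W)⟦n⟧) where
  toFun z := DerivedCategory.Q.map (cocMap z) ≫ (DerivedCategory.Q.commShiftIso n).hom.app W
  map_add' z z' := by rw [cocMap_add, Functor.map_add, Preadditive.add_comp]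
  map_smul' r z := by rw [cocMap_smul, Functor.map_smul, Linear.smul_comp, RingHom.id_apply]

/-- The classes vanishing in the derived category are coboundaries when maps in the homotopy category map
injectively. -/
theorem ker_clsD (K W : DRing.Cx A) (n : ℤ)
    (h : Function.Injective (fun φ : (H9Misc.DRingHomCx.qH A).obj K ⟶ (H9Misc.DRingHomCx.qH A).obj (W⟦n⟧) =>
      DerivedCategory.Qh.map φ)) :
    LinearMap.ker (clsD K W n) = (Bd (DRing.homCx K W) n).comap (Cyc (DRing.homCx K W) n).subtype := by
  let e := DerivedCategory.quotientCompQhIso (ModuleCat.{u} A)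
  ext z
  have key : clsD K W n z = 0 ↔ (H9Misc.DRingHomCx.cls (z.1 : Cochain K W n) z.2) = 0 := by
    show DerivedCategory.Q.map (cocMap z) ≫ _ = 0 ↔ (H9Misc.DRingHomCx.qH A).map (cocMap z) = 0
    constructor
    · intro h0
      have h1 : DerivedCategory.Q.map (cocMap z) = 0 :=
        (cancel_mono ((DerivedCategory.Q.commShiftIso n).hom.app W)).1 (h0.trans zero_comp.symm)
      refine h (Eq.trans ?_ (DerivedCategory.Qh.map_zero _ _).symm)
      refine (cancel_mono (e.hom.app (W⟦n⟧))).1 ?_
      exact (e.hom.naturality (cocMap z)).trans ((congrArg _ h1).trans (comp_zero.trans zero_comp.symm))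
    · intro h0
      have h1 : DerivedCategory.Q.map (cocMap z) = 0 := by
        refine (cancel_epi (e.hom.app K)).1 ?_
        refine (e.hom.naturality (cocMap z)).symm.trans ?_
        show DerivedCategory.Qh.map ((H9Misc.DRingHomCx.qH A).map (cocMap z)) ≫ _ = _
        rw [h0, Functor.map_zero, zero_comp, comp_zero]
      rw [h1, zero_comp]
  rw [LinearMap.mem_ker, key, H9Misc.DRingHomCx.cls_eq_zero_iff, Submodule.mem_comap]
  exact Iff.rfl

/-- Finiteness of the maps in the derived category bounds the cohomology of the Hom complex. -/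
theorem hfin_homCx [IsNoetherianRing A] (K W : DRing.Cx A) (n : ℤ) [Module.Finite A (DRing.toD K ⟶ (DRing.toD W)⟦n⟧)]
    (h : Function.Injective (fun φ : (H9Misc.DRingHomCx.qH A).obj K ⟶ (H9Misc.DRingHomCx.qH A).obj (W⟦n⟧) =>
      DerivedCategory.Qh.map φ)) :
    HFin (DRing.homCx K W) n := by
  let G := DRing.homCx K W
  let π : Cyc G n →ₗ[A] G.X n ⧸ Bd G n := (Bd G n).mkQ ∘ₗ (Cyc G n).subtype
  have hker : LinearMap.ker π = LinearMap.ker (clsD K W n) := by
    rw [ker_clsD K W n h, LinearMap.ker_comp, Submodule.ker_mkQ]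
  rw [HFin, show (Cyc G n).map (Bd G n).mkQ = LinearMap.range π by
    rw [LinearMap.range_comp, Submodule.range_subtype]]
  let ψ := ((Submodule.quotEquivOfEq _ _ hker).trans (LinearMap.quotKerEquivRange (clsD K W n))).symm.trans
    (LinearMap.quotKerEquivRange π)
  exact Module.Finite.iff_fg.1 (Module.Finite.equiv ψ)

/-- Finiteness of cohomology passes along chain maps that are bijective enough. -/
theorem hfin_of_map {G G' : DRing.Cx A} (φ : ∀ j, G.X j →ₗ[A] G'.X j)
    (hd : ∀ j k x, dl G' j k (φ j x) = φ k (dl G j k x)) (n : ℤ) (hi : Function.Injective (φ (n + 1)))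
    (hs : Function.Surjective (φ n)) (h : HFin G n) : HFin G' n := by
  have hBd : Bd G n ≤ (Bd G' n).comap (φ n) := by
    rintro _ ⟨w, rfl⟩
    exact ⟨φ (n - 1) w, hd _ _ w⟩
  have hsub : (Cyc G' n).map (Bd G' n).mkQ =
      ((Cyc G n).map (Bd G n).mkQ).map (Submodule.mapQ _ _ (φ n) hBd) := by
    rw [← Submodule.map_comp, Submodule.mapQ_mkQ, Submodule.map_comp]
    congr 1
    ext y
    constructor
    · intro hy
      obtain ⟨x, rfl⟩ := hs y
      refine ⟨x, ?_, rfl⟩
      refine LinearMap.mem_ker.2 (hi ?_)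
      rw [← hd, map_zero]
      exact hy
    · rintro ⟨x, hx, rfl⟩
      rw [LinearMap.mem_ker, hd, LinearMap.mem_ker.1 hx, map_zero]
  rw [HFin, hsub]
  exact h.map _

variable (T : Set (PrimeSpectrum A))

/-- The inclusion of the torsion subcomplex. -/
noncomputable def gamIncl (L : DRing.Cx A) : gamT T L ⟶ L where
  f j := ModuleCat.ofHom (torsSub T (L.X j)).subtype
  comm' _ _ _ := ModuleCat.hom_ext (LinearMap.ext fun _ => rfl)

lemma homCxMap_gamIncl_apply (Q L : DRing.Cx A) (j : ℤ) (z : Cochain Q (gamT T L) j) (p q : ℤ) (hpq : p + j = q)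
    (x : Q.X p) :
    ((DRing.postcompLin Q (gamIncl T L) j z).v p q hpq).hom x = ((z.v p q hpq).hom x).1 := by
  show ((Cochain.comp z (Cochain.ofHom (gamIncl T L)) (add_zero j)).v p q hpq).hom x = _
  rw [Cochain.comp_zero_cochain_v, Cochain.ofHom_v]
  rfl

lemma injective_postcomp_gamIncl (Q L : DRing.Cx A) (j : ℤ) :
    Function.Injective (DRing.postcompLin Q (gamIncl T L) j) := by
  intro z z' h
  refine Cochain.ext _ _ fun p q hpq => ?_
  refine ModuleCat.hom_ext (LinearMap.ext fun x => Subtype.ext ?_)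
  rw [← homCxMap_gamIncl_apply, ← homCxMap_gamIncl_apply, h]

/-- A cochain with torsion values from a bounded complex of finite modules is torsion. -/
lemma mem_torsSub_postcomp {Q : DRing.Cx A} {a b : ℤ} (hQ : DRing.VanishesOutside Q a b)
    (hfin : ∀ p, Module.Finite A (Q.X p)) (L : DRing.Cx A) (j : ℤ) (z : Cochain Q (gamT T L) j) :
    DRing.postcompLin Q (gamIncl T L) j z ∈ torsSub T (Cochain Q L j) := by
  classical
  obtain ⟨J, hJ, hJ'⟩ := exists_forall_mem T (Finset.Icc a b)
    (fun p r => ∀ x : Q.X p, r • (z.v p (p + j) rfl).hom x = 0) (fun p _ => by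
      haveI := hfin p
      obtain ⟨m, v, hv⟩ := Module.Finite.exists_fin (R := A) (M := Q.X p)
      obtain ⟨J, hJ, hJ'⟩ := exists_forall_mem T (Finset.univ : Finset (Fin m))
        (fun l r => r • (z.v p (p + j) rfl).hom (v l) = 0)
        (fun l _ => by
          obtain ⟨J, hJ, hJ'⟩ := ((z.v p (p + j) rfl).hom (v l)).2
          exact ⟨J, hJ, fun r hr => Subtype.ext (hJ' r hr)⟩)
      refine ⟨J, hJ, fun r hr x => ?_⟩
      have hx : x ∈ Submodule.span A (Set.range v) := hv.symm ▸ trivial
      induction hx using Submodule.span_induction with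
      | mem y hy => obtain ⟨l, rfl⟩ := hy; exact hJ' l (Finset.mem_univ l) r hr
      | zero => rw [map_zero, smul_zero]
      | add y w _ _ hy hw => rw [map_add, smul_add, hy, hw, add_zero]
      | smul c y _ hy => rw [map_smul, smul_comm, hy, smul_zero])
  refine ⟨J, hJ, fun r hr => Cochain.ext _ _ fun p q hpq => ModuleCat.hom_ext (LinearMap.ext fun x => ?_)⟩
  subst hpq
  rw [Cochain.smul_v, Cochain.zero_v]
  show r • ((DRing.postcompLin Q (gamIncl T L) j z).v p (p + j) rfl).hom x = 0
  rw [homCxMap_gamIncl_apply]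
  by_cases hp : p ∈ Finset.Icc a b
  · exact congrArg Subtype.val (hJ' p hp r hr x)
  · haveI : Subsingleton (Q.X p) := ModuleCat.subsingleton_of_isZero (hQ p (by
      rw [Finset.mem_Icc] at hp; omega))
    rw [Subsingleton.elim x 0, map_zero, Submodule.coe_zero, smul_zero]

/-- The torsion part of a Hom complex is the Hom complex into the torsion part. -/
theorem hfin_gamT_homCx {Q : DRing.Cx A} {a b : ℤ} (hQ : DRing.VanishesOutside Q a b)
    (hfin : ∀ p, Module.Finite A (Q.X p)) (L : DRing.Cx A) (n : ℤ) (h : HFin (DRing.homCx Q (gamT T L)) n) :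
    HFin (gamT T (DRing.homCx Q L)) n := by
  refine hfin_of_map (G := DRing.homCx Q (gamT T L)) (G' := gamT T (DRing.homCx Q L))
    (fun j => (DRing.postcompLin Q (gamIncl T L) j).codRestrict (torsSub T (Cochain Q L j))
      (mem_torsSub_postcomp T hQ hfin L j)) (fun j k z => Subtype.ext ?_) n ?_ ?_ h
  · exact δ_comp_ofHom (z : Cochain Q (gamT T L) j) (gamIncl T L) k
  · exact fun z z' hz => injective_postcomp_gamIncl T Q L (n + 1) (congrArg Subtype.val hz)
  · rintro ⟨z, J, hJ, hz⟩
    have hmem : ∀ (p q : ℤ) (hpq : p + n = q) (x : Q.X p),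
        ((z : Cochain Q L n).v p q hpq).hom x ∈ torsSub T (L.X q) := fun p q hpq x => ⟨J, hJ, fun r hr => by
      have h1 := congrArg (fun w : Cochain Q L n => (w.v p q hpq).hom x) (hz r hr)
      exact h1⟩
    refine ⟨Cochain.mk fun p q hpq => ModuleCat.ofHom
      (((z : Cochain Q L n).v p q hpq).hom.codRestrict (torsSub T (L.X q)) (hmem p q hpq)), Subtype.ext ?_⟩
    refine Cochain.ext _ _ fun p q hpq => ModuleCat.hom_ext (LinearMap.ext fun x => ?_)
    exact homCxMap_gamIncl_apply T Q L n _ p q hpq x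

end Groth.Agent.H1LCFin
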