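import Mathlib.Algebra.Homology.DerivedCategory.TStructure
import Mathlib.Algebra.Homology.DerivedCategory.Linear
import Mathlib.Algebra.Category.ModuleCat.Abelian
import Groth.Prelude.Def_DRing2

/-!
# Devissage of bounded objects along their cohomology
-/

set_option autoImplicit false
set_option linter.style.haveILetI false
set_option backward.isDefEq.respectTransparency false

universe u

open CategoryTheory CategoryTheory.Limits CategoryTheory.Pretriangulated

attribute [local instance] HasDerivedCategory.standard

namespace Groth.Agent.H1LCFin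

variable {A : Type u} [CommRing A]

/-- A property stable under isomorphisms and extensions holds for a bounded object once it holds for its shifted
cohomology modules. -/
theorem prop_of_homology (P : Dual.D A → Prop) (hiso : ∀ {X Y : Dual.D A}, (X ≅ Y) → P X → P Y)
    (hzero : ∀ X : Dual.D A, IsZero X → P X)
    (hext : ∀ T ∈ distTriang (Dual.D A), P T.obj₁ → P T.obj₃ → P T.obj₂) :
    ∀ (n : ℕ) (a : ℤ) (X : Dual.D A), X.IsGE a → X.IsLE (a + n - 1) →
      (∀ c : ℤ, P ((DerivedCategory.singleFunctor (ModuleCat.{u} A) c).obj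
        ((DerivedCategory.homologyFunctor (ModuleCat.{u} A) c).obj X))) → P X
  | 0, a, X, h1, h2, _ => hzero X ((IsZero.iff_id_eq_zero X).2
      (DerivedCategory.TStructure.t.zero (𝟙 X) (a + (0 : ℕ) - 1) a (by omega)))
  | n + 1, a, X, h1, h2, hX => by
    obtain ⟨Y, Z, hY, hZ, f, g, w, hT⟩ :=
      DerivedCategory.TStructure.t.exists_triangle X (a + n - 1) (a + n) (by omega)
    haveI : Y.IsLE (a + n - 1) := ⟨hY⟩
    haveI : Z.IsGE (a + n) := ⟨hZ⟩
    haveI := h1
    haveI := h2
    let H := fun c => DerivedCategory.homologyFunctor (ModuleCat.{u} A) c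
    have hisoZ : ∀ c : ℤ, a + n - 1 < c → IsIso ((H c).map g) := fun c hc => by
      haveI : Mono ((H c).map g) := (DerivedCategory.HomologySequence.mono_homologyMap_mor₂_iff _ hT c).2
        ((DerivedCategory.isZero_of_isLE Y (a + n - 1) c hc).eq_of_src _ _)
      haveI : Epi ((H c).map g) := (DerivedCategory.HomologySequence.epi_homologyMap_mor₂_iff _ hT c (c + 1) rfl).2
        ((DerivedCategory.isZero_of_isLE Y (a + n - 1) (c + 1) (by omega)).eq_of_tgt _ _)
      exact isIso_of_mono_of_epi _
    have hisoY : ∀ c : ℤ, c ≤ a + n - 1 → IsIso ((H c).map f) := fun c hc => by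
      haveI : Mono ((H c).map f) :=
        (DerivedCategory.HomologySequence.mono_homologyMap_mor₁_iff _ hT (c - 1) c (by omega)).2
        ((DerivedCategory.isZero_of_isGE Z (a + n) (c - 1) (by omega)).eq_of_src _ _)
      haveI : Epi ((H c).map f) := (DerivedCategory.HomologySequence.epi_homologyMap_mor₁_iff _ hT c).2
        ((DerivedCategory.isZero_of_isGE Z (a + n) c (by omega)).eq_of_tgt _ _)
      exact isIso_of_mono_of_epi _
    haveI : Z.IsLE (a + n) := (DerivedCategory.isLE_iff Z _).2 fun c hc => by
      haveI := hisoZ c (by omega)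
      exact (DerivedCategory.isZero_of_isLE X (a + (n + 1 : ℕ) - 1) c (by omega)).of_iso
        (asIso ((H c).map g)).symm
    haveI : Y.IsGE a := (DerivedCategory.isGE_iff Y a).2 fun c hc => by
      haveI := hisoY c (by omega)
      exact (DerivedCategory.isZero_of_isGE X a c hc).of_iso (asIso ((H c).map f))
    refine hext _ hT (prop_of_homology P hiso hzero hext n a Y inferInstance inferInstance fun c => ?_) ?_
    · by_cases hc : c ≤ a + n - 1
      · haveI := hisoY c hc
        exact hiso ((DerivedCategory.singleFunctor (ModuleCat.{u} A) c).mapIso (asIso ((H c).map f)).symm) (hX c)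
      · exact hzero _ ((DerivedCategory.singleFunctor (ModuleCat.{u} A) c).map_isZero
          (DerivedCategory.isZero_of_isLE Y (a + n - 1) c (by omega)))
    · obtain ⟨N, ⟨e⟩⟩ := DerivedCategory.exists_iso_singleFunctor_obj_of_isGE_of_isLE Z (a + n)
      haveI := hisoZ (a + n) (by omega)
      refine hiso ((DerivedCategory.singleFunctor (ModuleCat.{u} A) (a + n)).mapIso
        (asIso ((H (a + n)).map g) ≪≫ (H (a + n)).mapIso e ≪≫
          (DerivedCategory.singleFunctorCompHomologyFunctorIso (ModuleCat.{u} A) (a + n)).app N) ≪≫ e.symm) (hX (a + n))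

end Groth.Agent.H1LCFin
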