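import Groth.Agent.H1LCFin.Classes
import Groth.Agent.H1Falt.Systems
import Groth.Agent.H1Falt.PowSystem
import Groth.Agent.LC.GorGlobal
import Groth.Agent.LC.CodimPropagate

/-!
# Vanishing of `Ext` into a regular ring, and finiteness of maps into torsion parts
-/

set_option autoImplicit false
set_option linter.style.haveILetI false
set_option backward.isDefEq.respectTransparency false

universe u

open CategoryTheory CategoryTheory.Limits IsLocalRing

attribute [local instance] HasDerivedCategory.standard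

namespace Groth.Agent.H1LCFin

open H1Falt

variable {R : Type u} [CommRing R] [IsRegularRing R]

/-- Between two primes of a regular ring there are primes of every intermediate height. -/
theorem exists_height_eq {Q m : PrimeSpectrum R} (h : Q ≤ m) (k : ℕ) (hQ : Q.asIdeal.height ≤ k)
    (hm : (k : ℕ∞) ≤ m.asIdeal.height) :
    ∃ P : PrimeSpectrum R, Q ≤ P ∧ P ≤ m ∧ P.asIdeal.height = k := by
  obtain ⟨P, ⟨hQP, hPm, hPk⟩, hmax⟩ := (InvImage.wf PrimeSpectrum.asIdeal (wellFounded_gt (α := Ideal R))).has_min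
    {P : PrimeSpectrum R | Q ≤ P ∧ P ≤ m ∧ P.asIdeal.height ≤ k} ⟨Q, le_rfl, h, hQ⟩
  refine ⟨P, hQP, hPm, le_antisymm hPk (not_lt.1 fun hlt => ?_)⟩
  have hPm' : P < m := lt_of_le_of_ne hPm fun e => absurd (e ▸ hlt) (not_lt.2 hm)
  obtain ⟨P', ⟨hPP', hP'm⟩, hmin⟩ := (InvImage.wf (fun P : PrimeSpectrum R => P.asIdeal.height) wellFounded_lt).has_min
    {P' : PrimeSpectrum R | P < P' ∧ P' ≤ m} ⟨m, hPm', le_rfl⟩
  have hq : (P'.asIdeal.map (Ideal.Quotient.mk P.asIdeal)).height ≤ 1 := by
    by_contra hlt1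
    obtain ⟨a, ha, ha'⟩ := SetLike.exists_of_lt (show P.asIdeal < P'.asIdeal from hPP')
    obtain ⟨t, ht, hPt, htP', -⟩ :=
      LC.exists_prime_between P.asIdeal P'.asIdeal hPP' (not_le.1 hlt1) ha ha'
    exact hmin ⟨t, ht⟩ ⟨hPt, le_trans htP'.le hP'm⟩ (Ideal.height_strict_mono_of_isPrime htP')
  have hle : P'.asIdeal.height ≤ k := by
    rw [← LC.height_add_height_quotient_eq P.asIdeal P'.asIdeal hPP'.le]
    exact (add_le_add le_rfl hq).trans (Order.add_one_le_of_lt hlt)
  exact hmax P' ⟨hQP.trans hPP'.le, hP'm, hle⟩ hPP'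

/-- `Ext^k(X, R) = 0` when no prime of the support has height `k`. -/
theorem subsingleton_ext_of_heights (X : Type u) [AddCommGroup X] [Module R X] [Module.Finite R X] (k : ℕ)
    (h : ∀ q ∈ Module.support R X, q.asIdeal.height ≠ k) :
    Subsingleton (Abelian.Ext (ModuleCat.of R X) (ModuleCat.of R R) k) := by
  refine Module.subsingleton_of_localization_maximal
    (fun (m : Ideal R) _ => LocalizedModule m.primeCompl (Abelian.Ext (ModuleCat.of R X) (ModuleCat.of R R) k))
    (fun (m : Ideal R) _ => LocalizedModule.mkLinearMap m.primeCompl _) fun m hm => ?_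
  haveI : m.IsPrime := hm.isPrime
  let B := Localization.AtPrime m
  haveI := LC.gorenstein_of_isRegularLocalRing (R := B)
  obtain ⟨d, hd, hδ, hv⟩ := LC.gorenstein_basic (R := B)
  obtain ⟨e⟩ := LC.exists_extLoc_ring m.primeCompl X k
  refine @Equiv.subsingleton _ _ e.toEquiv ?_
  haveI : Module.Finite B (LocalizedModule m.primeCompl X) :=
    Module.Finite.of_isLocalizedModule m.primeCompl (LocalizedModule.mkLinearMap m.primeCompl X)
  rcases lt_or_ge d k with hk | hk
  · exact hv _ k hk
  refine LC.subsingleton_ext_of_filtration _ k (LocalizedModule m.primeCompl X) fun q hq => ?_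
  refine LC.subsingleton_ext_quot_prime B q k ?_
  rw [hδ]
  have hdm : (m.height : WithBot ℕ∞) = (d : WithBot ℕ∞) :=
    (IsLocalization.AtPrime.ringKrullDim_eq_height m B).symm.trans hd
  have hdm' : m.height = d := WithBot.coe_inj.1 hdm
  let Q : PrimeSpectrum R := PrimeSpectrum.comap (algebraMap R B) q
  have hQm : Q.asIdeal ≤ m :=
    (Ideal.comap_mono (IsLocalRing.le_maximalIdeal q.isPrime.ne_top)).trans
      (IsLocalization.AtPrime.under_maximalIdeal B m).le
  have hQX : Q ∈ Module.support R X := by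
    rw [Module.mem_support_iff']
    obtain ⟨z, hz⟩ := Module.mem_support_iff'.1 hq
    obtain ⟨⟨x, s⟩, hxs⟩ := IsLocalizedModule.surj m.primeCompl (LocalizedModule.mkLinearMap m.primeCompl X) z
    refine ⟨x, fun r hr h0 => ?_⟩
    refine hz (algebraMap R B r * algebraMap R B s) ?_ ?_
    · exact q.isPrime.mul_notMem hr fun hs => s.2 (hQm hs)
    · rw [mul_smul, algebraMap_smul B, algebraMap_smul B, show (s : R) • z = _ from hxs, ← map_smul, h0, map_zero]
  have hkQ : (k : ℕ∞) < Q.asIdeal.height := by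
    by_contra hle
    obtain ⟨P, hQP, -, hP⟩ := exists_height_eq (Q := Q) (m := ⟨m, inferInstance⟩) hQm k (not_lt.1 hle)
      (by rw [hdm']; exact_mod_cast hk)
    exact h P (Module.mem_support_mono hQP hQX) hP
  have hQq : Q.asIdeal.height = Order.height q := by
    rw [← PrimeSpectrum.height_eq_orderHeight]
    exact IsLocalization.height_under m.primeCompl q.asIdeal
  have hsum : Order.height q + Order.coheight q ≤ (d : ℕ∞) := by
    have h1 := Order.krullDim_eq_iSup_height_add_coheight_of_nonempty (α := PrimeSpectrum B)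
    rw [← ringKrullDim, hd] at h1
    have h2 : ((d : ℕ∞)) = ⨆ a : PrimeSpectrum B, Order.height a + Order.coheight a := WithBot.coe_inj.1 h1
    rw [h2]
    exact le_iSup (fun a : PrimeSpectrum B => Order.height a + Order.coheight a) q
  rw [hQq] at hkQ
  have hne : Order.coheight q ≠ ⊤ := ne_top_of_le_ne_top (ENat.natCast_ne_top d) (le_add_self.trans hsum)
  exact ((ENat.add_lt_add_iff_right hne).2 hkQ).trans_le hsum

variable (J : Ideal R)

/-- Maps from a module into a shift of the ring form a finite module. -/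
theorem finite_hom_ring (X : ModuleCat.{u} R) [Module.Finite R X] (k : ℤ) :
    Module.Finite R ((DerivedCategory.singleFunctor (ModuleCat.{u} R) 0).obj X ⟶ (Dual.inD R R)⟦k⟧) := by
  by_cases hk : k < 0
  · haveI : ((Dual.inD R R)⟦k⟧).IsGE (-k) :=
      DerivedCategory.TStructure.t.isGE_shift (Dual.inD R R) 0 k (-k) (by omega)
    haveI : Subsingleton ((DerivedCategory.singleFunctor (ModuleCat.{u} R) 0).obj X ⟶ (Dual.inD R R)⟦k⟧) :=
      ⟨fun f g => (DerivedCategory.TStructure.t.zero f 0 (-k) (by omega)).trans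
        (DerivedCategory.TStructure.t.zero g 0 (-k) (by omega)).symm⟩
    infer_instance
  · obtain ⟨n, rfl⟩ := Int.eq_ofNat_of_zero_le (not_lt.1 hk)
    haveI : Module.Finite R (Abelian.Ext X (ModuleCat.of R R) n) := inferInstance
    exact Module.Finite.equiv (Abelian.Ext.homLinearEquiv (R := R) (X := X) (Y := ModuleCat.of R R) (n := n))

/-- Maps from a module without support primes of height `k` vanish. -/
theorem subsingleton_hom_ring (X : ModuleCat.{u} R) [Module.Finite R X] (k : ℤ)
    (h : ∀ q ∈ Module.support R X, ∀ n : ℕ, (n : ℤ) = k → q.asIdeal.height ≠ n) :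
    Subsingleton ((DerivedCategory.singleFunctor (ModuleCat.{u} R) 0).obj X ⟶ (Dual.inD R R)⟦k⟧) := by
  by_cases hk : k < 0
  · haveI : ((Dual.inD R R)⟦k⟧).IsGE (-k) :=
      DerivedCategory.TStructure.t.isGE_shift (Dual.inD R R) 0 k (-k) (by omega)
    exact ⟨fun f g => (DerivedCategory.TStructure.t.zero f 0 (-k) (by omega)).trans
      (DerivedCategory.TStructure.t.zero g 0 (-k) (by omega)).symm⟩
  · obtain ⟨n, rfl⟩ := Int.eq_ofNat_of_zero_le (not_lt.1 hk)
    haveI := subsingleton_ext_of_heights (R := R) X n fun q hq => h q hq n rfl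
    exact (Abelian.Ext.homLinearEquiv (R := R) (X := X) (Y := ModuleCat.of R R) (n := n)).toEquiv.symm.subsingleton

variable {L : DRing.Cx R} [L.IsKInjective] [(gamT (PrimeSpectrum.zeroLocus (J : Set R)) L).IsKInjective] {k : ℤ}
  (e : (Dual.inD R R)⟦k⟧ ≅ DerivedCategory.Q.obj L)

include e in
/-- A torsion module has finitely generated maps into the torsion part. -/
theorem finite_hom_gamT_of_killed (X : ModuleCat.{u} R) [Module.Finite R X] {N : ℕ}
    (hX : ∀ a ∈ J ^ N, ∀ x : X, a • x = 0) :
    Module.Finite R ((DerivedCategory.singleFunctor (ModuleCat.{u} R) 0).obj X ⟶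
      DerivedCategory.Q.obj (gamT (PrimeSpectrum.zeroLocus (J : Set R)) L)) := by
  let T := PrimeSpectrum.zeroLocus (J : Set R)
  haveI := finite_hom_ring X k
  haveI : Module.Finite R ((DerivedCategory.singleFunctor (ModuleCat.{u} R) 0).obj X ⟶ DerivedCategory.Q.obj L) :=
    Module.Finite.equiv (Linear.homCongr R (Iso.refl _) e)
  let ψ : ((DerivedCategory.singleFunctor (ModuleCat.{u} R) 0).obj X ⟶ DerivedCategory.Q.obj (gamT T L)) →ₗ[R]
      ((DerivedCategory.singleFunctor (ModuleCat.{u} R) 0).obj X ⟶ DerivedCategory.Q.obj L) :=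
    Linear.rightComp R _ (DerivedCategory.Q.map (gamIncl T L))
  refine Module.Finite.of_injective ψ ((injective_iff_map_eq_zero ψ).2 fun φ hφ => ?_)
  obtain ⟨f, hf, rfl⟩ := levelHom_surjective (gamT T L) φ
  have hf' : (f ≫ (gamIncl T L).f 0) ≫ L.d 0 1 = 0 := by
    rw [Category.assoc, (gamIncl T L).comm 0 1, ← Category.assoc, hf, zero_comp]
  have h1 : levelHom L (f ≫ (gamIncl T L).f 0) hf' = 0 := by
    refine Eq.trans ?_ hφ
    show _ = levelHom (gamT T L) f hf ≫ DerivedCategory.Q.map (gamIncl T L)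
    unfold levelHom
    rw [Category.assoc, ← Functor.map_comp]
    refine congrArg (fun g => _ ≫ DerivedCategory.Q.map g) (HomologicalComplex.from_single_hom_ext ?_)
    simp [singleMap_f]
  obtain ⟨g, hg⟩ := (levelHom_eq_zero_iff L _ hf').1 h1
  refine (levelHom_eq_zero_iff (gamT T L) f hf).2
    ⟨ModuleCat.ofHom (g.hom.codRestrict (torsSub T (L.X (-1))) fun x =>
      ⟨J ^ N, zeroLocus_pow_subset T subset_rfl N, fun a ha => by rw [← map_smul, hX a ha, map_zero]⟩), ?_⟩
  exact ModuleCat.hom_ext (LinearMap.ext fun x => Subtype.ext (ConcreteCategory.congr_hom hg x))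

include e in
/-- A module whose `J`-torsion quotients miss the height `k` has no maps into the torsion part. -/
theorem subsingleton_hom_gamT (X : ModuleCat.{u} R) [Module.Finite R X]
    (h : ∀ q ∈ Module.support R X, J ≤ q.asIdeal → ∀ n : ℕ, (n : ℤ) = k → q.asIdeal.height ≠ n) :
    Subsingleton ((DerivedCategory.singleFunctor (ModuleCat.{u} R) 0).obj X ⟶
      DerivedCategory.Q.obj (gamT (PrimeSpectrum.zeroLocus (J : Set R)) L)) := by
  classical
  let T := PrimeSpectrum.zeroLocus (J : Set R)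
  refine subsingleton_of_forall_eq 0 fun φ => ?_
  obtain ⟨f, hf, rfl⟩ := levelHom_surjective (gamT T L) φ
  obtain ⟨m, v, hv⟩ := Module.Finite.exists_fin (R := R) (M := X)
  obtain ⟨J', hJ', hJ''⟩ := exists_forall_mem T (Finset.univ : Finset (Fin m)) (fun l r => r • f.hom (v l) = 0)
    (fun l _ => by
      obtain ⟨J', hJ', hJ''⟩ := (f.hom (v l)).2
      exact ⟨J', hJ', fun r hr => Subtype.ext (hJ'' r hr)⟩)
  obtain ⟨N, hN⟩ := exists_pow_le J hJ'
  have hkill : ∀ r ∈ J ^ N, ∀ x : X, r • f.hom x = 0 := fun r hr x => by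
    have hx : x ∈ Submodule.span R (Set.range v) := hv.symm ▸ trivial
    induction hx using Submodule.span_induction with
    | mem y hy => obtain ⟨l, rfl⟩ := hy; exact hJ'' l (Finset.mem_univ l) r (hN hr)
    | zero => rw [map_zero, smul_zero]
    | add y w _ _ hy hw => rw [map_add, smul_add, hy, hw, add_zero]
    | smul c y _ hy => rw [map_smul, smul_comm, hy, smul_zero]
  let S : Submodule R X := (J ^ N) • ⊤
  let Y : ModuleCat.{u} R := ModuleCat.of R (X ⧸ S)
  haveI : Module.Finite R Y := inferInstanceAs (Module.Finite R (X ⧸ S))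
  let f₁ : Y ⟶ L.X 0 := ModuleCat.ofHom (S.liftQ ((torsSub T (L.X 0)).subtype ∘ₗ f.hom) (by
    refine Submodule.smul_le.2 fun r hr x _ => ?_
    rw [LinearMap.mem_ker, map_smul]
    exact congrArg Subtype.val (hkill r hr x)))
  have hf₁ : f₁ ≫ L.d 0 1 = 0 := by
    refine ModuleCat.hom_ext (LinearMap.ext fun y => ?_)
    obtain ⟨x, rfl⟩ := Submodule.Quotient.mk_surjective S y
    exact congrArg Subtype.val (ConcreteCategory.congr_hom hf x)
  haveI := subsingleton_hom_ring Y k fun q hq => by
    refine h q (Module.support_subset_of_surjective S.mkQ S.mkQ_surjective hq) ?_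
    have hann : J ^ N ≤ Module.annihilator R (X ⧸ S) := fun r hr => Module.mem_annihilator.2 fun y => by
      obtain ⟨x, rfl⟩ := Submodule.Quotient.mk_surjective S y
      exact (Submodule.Quotient.mk_eq_zero S).2 (Submodule.smul_mem_smul hr trivial)
    rw [Module.support_eq_zeroLocus] at hq
    by_cases hN0 : N = 0
    · subst hN0
      exact absurd (hann.trans hq) (by rw [pow_zero, Ideal.one_eq_top, top_le_iff]; exact q.isPrime.ne_top)
    · exact q.isPrime.le_of_pow_le (hann.trans hq)
  haveI : Subsingleton ((DerivedCategory.singleFunctor (ModuleCat.{u} R) 0).obj Y ⟶ DerivedCategory.Q.obj L) :=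
    (Linear.homCongr R (Iso.refl _) e).symm.toEquiv.subsingleton
  obtain ⟨g, hg⟩ := (levelHom_eq_zero_iff L f₁ hf₁).1 (Subsingleton.elim _ _)
  refine (levelHom_eq_zero_iff (gamT T L) f hf).2
    ⟨ModuleCat.ofHom ((g.hom ∘ₗ S.mkQ).codRestrict (torsSub T (L.X (-1))) fun x =>
      ⟨J ^ N, zeroLocus_pow_subset T subset_rfl N, fun a ha => ?_⟩), ?_⟩
  · rw [← map_smul, LinearMap.comp_apply, show S.mkQ (a • x) = 0 from
      (Submodule.Quotient.mk_eq_zero S).2 (Submodule.smul_mem_smul ha trivial), map_zero]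
  · exact ModuleCat.hom_ext (LinearMap.ext fun x => Subtype.ext
      (LinearMap.congr_fun (congrArg ModuleCat.Hom.hom hg) (S.mkQ x)))

include e in
/-- Finitely generated maps into the torsion part. -/
theorem finite_hom_gamT (G : ModuleCat.{u} R) [Module.Finite R G]
    (h : ∀ p ∈ Module.support R G, ¬ J ≤ p.asIdeal → ∀ q : PrimeSpectrum R, p ≤ q → J ≤ q.asIdeal →
      ∀ n : ℕ, (n : ℤ) = k → q.asIdeal.height ≠ n) :
    Module.Finite R ((DerivedCategory.singleFunctor (ModuleCat.{u} R) 0).obj G ⟶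
      DerivedCategory.Q.obj (gamT (PrimeSpectrum.zeroLocus (J : Set R)) L)) := by
  let T := PrimeSpectrum.zeroLocus (J : Set R)
  let G₀ := DRing.torsionSub J (G : Type u)
  let S : ShortComplex (ModuleCat.{u} R) := ShortComplex.mk (X₁ := ModuleCat.of R G₀) (X₂ := G)
    (X₃ := ModuleCat.of R ((G : Type u) ⧸ G₀)) (ModuleCat.ofHom G₀.subtype) (ModuleCat.ofHom G₀.mkQ)
    (ModuleCat.hom_ext (LinearMap.ext fun x => (Submodule.Quotient.mk_eq_zero _).2 x.2))
  have hS : S.ShortExact :=
    { exact := (ShortComplex.ShortExact.moduleCat_exact_iff_function_exact _).2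
        (LinearMap.exact_subtype_mkQ G₀)
      mono_f := (ModuleCat.mono_iff_injective _).2 Subtype.val_injective
      epi_g := (ModuleCat.epi_iff_surjective _).2 (Submodule.mkQ_surjective _) }
  haveI : Module.Finite R G₀ := Module.Finite.iff_fg.2 (IsNoetherian.noetherian G₀)
  obtain ⟨N, hN⟩ := LC.exists_pow_smul_eq_zero_of_finite J G₀ fun x => by
    obtain ⟨n, hn⟩ := x.2
    exact ⟨n, fun a ha => Subtype.ext (hn a ha)⟩
  haveI := finite_hom_gamT_of_killed J e S.X₁ hN
  haveI : Module.Finite R S.X₃ := inferInstanceAs (Module.Finite R ((G : Type u) ⧸ G₀))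
  haveI := subsingleton_hom_gamT J e S.X₃ fun q hq hJq => by
    haveI : Module.Finite R ((G : Type u) ⧸ G₀) := inferInstance
    obtain ⟨x, hxJ, hx⟩ := LC.exists_regular_of_torsionFree J ((G : Type u) ⧸ G₀) (LC.torsionSub_quot_eq_bot J G)
    rw [Module.support_eq_zeroLocus] at hq
    obtain ⟨P, hP, hPq⟩ := Ideal.exists_minimalPrimes_le (J := q.asIdeal) hq
    haveI := hP.1.1
    let p : PrimeSpectrum R := ⟨P, hP.1.1⟩
    have hp : p ∈ Module.support R ((G : Type u) ⧸ G₀) := by
      rw [Module.support_eq_zeroLocus]; exact hP.1.2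
    refine h p (Module.support_subset_of_surjective G₀.mkQ G₀.mkQ_surjective hp) (fun hle => ?_) q hPq hJq
    have hass := Module.associatedPrimes.minimalPrimes_annihilator_subset_associatedPrimes R ((G : Type u) ⧸ G₀) hP
    obtain ⟨-, z, hz⟩ := Groth.Agent.Alg6.mem_ass_iff.1 hass
    have hxz : x • z = 0 := (hz x).1 (hle hxJ)
    have hz0 : z = 0 := hx (by simpa using hxz)
    exact hP.1.1.ne_top ((Ideal.eq_top_iff_one _).2 ((hz 1).2 (by rw [hz0, smul_zero])))
  refine Module.Finite.of_injective (Linear.leftComp R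
    (DerivedCategory.Q.obj (gamT T L)) ((DerivedCategory.singleFunctor (ModuleCat.{u} R) 0).map S.f))
    ((injective_iff_map_eq_zero _).2 fun φ hφ => ?_)
  obtain ⟨g, rfl⟩ := Pretriangulated.Triangle.yoneda_exact₂ _ hS.singleTriangle_distinguished φ hφ
  exact (congrArg (_ ≫ ·) ((inferInstance : Subsingleton ((DerivedCategory.singleFunctor (ModuleCat.{u} R) 0).obj S.X₃ ⟶
    DerivedCategory.Q.obj (gamT T L))).elim g 0)).trans comp_zero

end Groth.Agent.H1LCFin
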