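import Groth.Agent.H1LCFin.Devissage
import Groth.Agent.H1LCFin.Vanish
import Groth.Agent.H1Falt.PowSystem
import Groth.Agent.H9Misc.DRingDual
import Groth.Agent.H9Misc.DRingHomTensorKI
import Groth.Agent.H9Misc.DRingProjAmp
import Groth.Agent.H9Misc.DRingRegular

/-!
# Finiteness of one local cohomology module over a regular ring, from the supports of the dual
-/

set_option autoImplicit false
set_option linter.style.haveILetI false
set_option backward.isDefEq.respectTransparency false

universe u

open CategoryTheory CategoryTheory.Limits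

attribute [local instance] HasDerivedCategory.standard

namespace Groth.Agent.H1LCFin

open H1Falt H9Misc

variable {R : Type u} [CommRing R]

/-- Moving a shift of the source to the target keeps finiteness. -/
lemma finite_hom_single [IsNoetherianRing R] (G : ModuleCat.{u} R) (Y : Dual.D R) (c : ℤ)
    [Module.Finite R ((DerivedCategory.singleFunctor (ModuleCat.{u} R) 0).obj G ⟶ Y⟦c⟧)] :
    Module.Finite R ((DerivedCategory.singleFunctor (ModuleCat.{u} R) c).obj G ⟶ Y) := by
  let e : ((DerivedCategory.singleFunctor (ModuleCat.{u} R) c).obj G)⟦c⟧ ≅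
      (DerivedCategory.singleFunctor (ModuleCat.{u} R) 0).obj G :=
    ((DerivedCategory.singleFunctors (ModuleCat.{u} R)).shiftIso c 0 c (add_zero c)).app G
  let ψ : ((DerivedCategory.singleFunctor (ModuleCat.{u} R) c).obj G ⟶ Y) →ₗ[R]
      ((DerivedCategory.singleFunctor (ModuleCat.{u} R) 0).obj G ⟶ Y⟦c⟧) :=
    (Linear.homCongr R e (Iso.refl _)).toLinearMap ∘ₗ
      (CategoryTheory.shiftFunctor (Dual.D R) c).mapLinearMap R
  refine Module.Finite.of_injective ψ ?_
  exact (Linear.homCongr R e (Iso.refl _)).injective.comp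
    (CategoryTheory.shiftFunctor (Dual.D R) c).map_injective

variable [IsRegularRing R]

/-- Local cohomology in degree `i` is finite when no prime off `V(J)` in the support of the degree `c` dual module
has a specialization in `V(J)` of height `i + c`. -/
theorem finite_H_of_dual_support (J : Ideal R) (M : Type u) [AddCommGroup M] [Module R M] [Module.Finite R M] (i : ℕ)
    (hM : ∀ (c : ℤ) (p q : PrimeSpectrum R), ¬ J ≤ p.asIdeal → J ≤ q.asIdeal → p ≤ q →
      p ∈ Module.support R (Dual.inD R M ⟶ (Dual.inD R R)⟦c⟧) →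
      ∀ n : ℕ, (n : ℤ) = i + c → q.asIdeal.height ≠ n) :
    Module.Finite R (LocCoh.H J i M) := by
  let T := PrimeSpectrum.zeroLocus (J : Set R)
  -- a model of `R`
  obtain ⟨L, hb, hinj, hK, ⟨eL⟩⟩ := exists_model (Dual.inD R R) 0 fun j hj => inD_subsingleton R j (by omega)
  haveI := hK
  haveI : (gamT T L).IsStrictlyGE 0 := (CochainComplex.isStrictlyGE_iff _ _).2 fun j hj =>
    haveI := gamT_subsingleton (T := T) (hb j hj)
    ModuleCat.isZero_of_subsingleton _
  haveI : ∀ j, Injective ((gamT T L).X j) := fun j =>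
    (Module.injective_iff_injective_object R ((gamT T L).X j)).1 (gamT_injective hinj j)
  haveI : (gamT T L).IsKInjective := CochainComplex.isKInjective_of_injective (gamT T L) 0
  obtain ⟨β₀, hβ₀, hβ⟩ := levelHom_surjective L (X := ModuleCat.of R R) eL.hom
  let β : DRingDual.unitCx R ⟶ L := singleMap L β₀ hβ₀
  haveI : IsIso (DerivedCategory.Q.map β) := by
    have h1 : IsIso (levelHom L β₀ hβ₀) := hβ ▸ inferInstance
    unfold levelHom at h1
    exact @IsIso.of_isIso_comp_left _ _ _ _ _ _ _ _ h1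
  haveI : QuasiIso β := (DerivedCategory.isIso_Q_map_iff_quasiIso _ _).1 inferInstance
  -- a projective model of `M` and its dual
  obtain ⟨P, a, b, hz, hP, ⟨eP⟩⟩ := DRingRegular.isPerfectModule_of_finite
    (R := R) (fun p => (inferInstance : IsRegularLocalRing (Localization.AtPrime p.asIdeal))) M
  haveI : P.IsKProjective := DRingProjAmp.isKProjective (fun j => (hP j).2) fun j hj => hz j (Or.inr hj)
  let Q := DRingDual.dual P
  have hzQ : DRing.VanishesOutside Q (-b) (-a) := DRingDual.vanishesOutside_dual hz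
  have hPQ : DRing.TermwiseFiniteProjective Q := DRingDual.termwiseFiniteProjective_dual hP
  haveI : Q.IsKProjective := DRingProjAmp.isKProjective (fun j => (hPQ j).2) fun j hj => hzQ j (Or.inr hj)
  haveI : (DRing.homCx Q L).IsKInjective := DRingHomCx.isKInjective_homCx
    (DRingTor.isKF_of_flat (b := -a) (fun j => haveI := (hPQ j).2; Module.Flat.of_projective)
      fun j hj => hzQ j (Or.inr hj))
  haveI := DRingDual.isIso_bidual P hP
  haveI := DRingHomCx.quasiIso_homCxMap_of_isKProjective (K := Q) β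
  let eE : Dual.inD R M ≅ DerivedCategory.Q.obj (DRing.homCx Q L) :=
    eP.symm ≪≫ DerivedCategory.Q.mapIso (asIso (DRingDual.bidual P) ≪≫ DRingDual.dualIso Q) ≪≫
      asIso (DerivedCategory.Q.map (DRing.homCxMap Q β))
  refine ((powSystem J M i).transfer (DRing.homCx Q L) eE).1.2 ?_
  refine hfin_gamT_homCx T hzQ (fun j => (hPQ j).1) L i ?_
  -- the dual modules
  have hdual : ∀ c : ℤ, ∃ ψ : (DerivedCategory.homologyFunctor (ModuleCat.{u} R) c).obj (DRing.toD Q) →ₗ[R]
      (Dual.inD R M ⟶ (Dual.inD R R)⟦c⟧), Function.Injective ψ := by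
    intro c
    let W := DRingDual.unitCx R
    have hinj' : Function.Injective (fun φ : (DRingHomCx.qH R).obj P ⟶ (DRingHomCx.qH R).obj (W⟦c⟧) =>
        DerivedCategory.Qh.map φ) := (CochainComplex.IsKProjective.Qh_map_bijective P _).1
    let G := DRing.homCx P W
    let π : Cyc G c →ₗ[R] G.X c ⧸ Bd G c := (Bd G c).mkQ ∘ₗ (Cyc G c).subtype
    have hker : LinearMap.ker π = LinearMap.ker (clsD P W c) := by
      rw [ker_clsD P W c hinj', LinearMap.ker_comp, Submodule.ker_mkQ]
    have hrange : (Cyc G c).map (Bd G c).mkQ = LinearMap.range π := by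
      rw [LinearMap.range_comp, Submodule.range_subtype]
    obtain ⟨e₁⟩ := exists_homologyEquiv G c
    let e₂ : (DerivedCategory.homologyFunctor (ModuleCat.{u} R) c).obj (DRing.toD Q) ≃ₗ[R] G.homology c :=
      (((DerivedCategory.homologyFunctorFactors (ModuleCat.{u} R) c).app Q) ≪≫
        (HomologicalComplex.homologyFunctor _ _ c).mapIso (DRingDual.dualIso P)).toLinearEquiv
    let e₃ := ((e₂.trans e₁).trans (LinearEquiv.ofEq _ _ hrange)).trans
      ((LinearMap.quotKerEquivRange π).symm.trans ((Submodule.quotEquivOfEq _ _ hker).trans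
        (LinearMap.quotKerEquivRange (clsD P W c))))
    let e₄ : (DRing.toD P ⟶ (DRing.toD W)⟦c⟧) ≃ₗ[R] (Dual.inD R M ⟶ (Dual.inD R R)⟦c⟧) :=
      Linear.homCongr R eP ((CategoryTheory.shiftFunctor (Dual.D R) c).mapIso
        ((DerivedCategory.singleFunctorIsoCompQ (ModuleCat.{u} R) 0).app (ModuleCat.of R R)).symm)
    exact ⟨(e₄.toLinearMap ∘ₗ (LinearMap.range (clsD P W c)).subtype) ∘ₗ e₃.toLinearMap,
      (e₄.injective.comp Subtype.val_injective).comp e₃.injective⟩
  have hfinD : ∀ c : ℤ, Module.Finite R (Dual.inD R M ⟶ (Dual.inD R R)⟦c⟧) := fun c =>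
    finite_hom_ring (R := R) (ModuleCat.of R M) c
  haveI : Module.Finite R (DRing.toD Q ⟶ (DRing.toD (gamT T L))⟦(i : ℤ)⟧) := by
    haveI : Q.IsStrictlyGE (-b) := (CochainComplex.isStrictlyGE_iff _ _).2 fun j hj => hzQ j (Or.inl hj)
    haveI : Q.IsStrictlyLE (-a) := (CochainComplex.isStrictlyLE_iff _ _).2 fun j hj => hzQ j (Or.inr hj)
    haveI hle : (DRing.toD Q).IsLE (-a) := inferInstance
    haveI hge : (DRing.toD Q).IsGE (-b) := inferInstance
    refine prop_of_homology (A := R) (fun X => Module.Finite R (X ⟶ (DRing.toD (gamT T L))⟦(i : ℤ)⟧))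
      ?_ ?_ ?_ (-a + b + 1).toNat (-b) (DRing.toD Q) hge
      (DerivedCategory.TStructure.t.isLE_of_le (DRing.toD Q) (-a) _ (by omega)) fun c => ?_
    · intro X Y e h
      exact Module.Finite.equiv (Linear.homCongr R e (Iso.refl _))
    · intro X hX
      haveI : Subsingleton (X ⟶ (DRing.toD (gamT T L))⟦(i : ℤ)⟧) := ⟨fun f g => hX.eq_of_src f g⟩
      infer_instance
    · intro T' hT' h₁ h₃
      let Y := (DRing.toD (gamT T L))⟦(i : ℤ)⟧
      refine ⟨Submodule.fg_of_fg_map_of_fg_inf_ker (Linear.leftComp R Y T'.mor₁) (IsNoetherian.noetherian _) ?_⟩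
      have hS : IsNoetherian R (LinearMap.range (Linear.leftComp R Y T'.mor₂)) :=
        isNoetherian_of_fg_of_noetherian _ (Module.Finite.iff_fg.1 inferInstance)
      refine isNoetherian_submodule.1 hS _ ?_
      rintro x ⟨-, hx⟩
      obtain ⟨g, rfl⟩ := Pretriangulated.Triangle.yoneda_exact₂ T' hT' x hx
      exact ⟨g, rfl⟩
    · let G := (DerivedCategory.homologyFunctor (ModuleCat.{u} R) c).obj (DRing.toD Q)
      obtain ⟨ψ, hψ⟩ := hdual c
      haveI := hfinD c
      haveI : Module.Finite R G := Module.Finite.of_injective ψ hψ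
      haveI : (L⟦(i : ℤ) + c⟧).IsKInjective := inferInstance
      haveI : (gamT T (L⟦(i : ℤ) + c⟧)).IsKInjective := by rw [gamT_shift]; infer_instance
      let e : (Dual.inD R R)⟦(i : ℤ) + c⟧ ≅ DerivedCategory.Q.obj (L⟦(i : ℤ) + c⟧) :=
        (CategoryTheory.shiftFunctor (Dual.D R) ((i : ℤ) + c)).mapIso eL ≪≫
          ((DerivedCategory.Q.commShiftIso ((i : ℤ) + c)).app L).symm
      haveI := finite_hom_gamT J e G fun p hp hJp q hpq hJq n hn =>
        hM c p q hJp hJq hpq (Module.support_subset_of_injective ψ hψ hp) n hn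
      haveI : Module.Finite R ((DerivedCategory.singleFunctor (ModuleCat.{u} R) 0).obj G ⟶
          ((DRing.toD (gamT T L))⟦(i : ℤ)⟧)⟦c⟧) :=
        Module.Finite.equiv (Linear.homCongr R (Iso.refl _)
          (eqToIso (congrArg DerivedCategory.Q.obj (gamT_shift (T := T) L ((i : ℤ) + c))) ≪≫
            (DerivedCategory.Q.commShiftIso ((i : ℤ) + c)).app (gamT T L) ≪≫
            (shiftFunctorAdd' (Dual.D R) (i : ℤ) c ((i : ℤ) + c) rfl).app (DRing.toD (gamT T L))))
      exact finite_hom_single G _ c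
  exact hfin_homCx Q (gamT T L) i (CochainComplex.IsKProjective.Qh_map_bijective Q _).1

end Groth.Agent.H1LCFin
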